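import Groth.Agent.Lib.TrivBC22.ActionsCx
import Groth.Agent.Lib.DTen.BCRHom
import Groth.Agent.Lib.DTen.RHomRelIso

/-! # The actions of `R'` and of `A` on an object restricted along the square -/

set_option autoImplicit false
set_option maxHeartbeats 1000000
set_option backward.isDefEq.respectTransparency false
universe u

open CategoryTheory CategoryTheory.Limits MonoidalCategory BraidedCategory GrothLib.DT

attribute [local instance] HasDerivedCategory.standard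

namespace GrothLib.TrivBC22

section QProj

variable {R R' : Type u} [CommRing R] [CommRing R'] (ρ : R →+* R')
  [DTen.HasLTen R] [DTen.HasLTen₃ R] [DTen.IsSymMonoidal R]
  [DTen.HasLTen R'] [DTen.HasLTen₃ R'] [DTen.IsSymMonoidal R'] [DTen.HasResTen ρ] [DTen.ResLegIso ρ]
  [DRing.HasLBaseChange ρ] (adjρ : DRing.LBaseChange ρ ⊣ DRing.restrictD ρ)

/-- The projection formula map at the unit, for any left adjoint of restriction. -/
noncomputable def qP (X : Dual.D R) :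
    (DRing.restrictD ρ).obj (𝟙_ (Dual.D R')) ⊗ X ⟶ (DRing.restrictD ρ).obj ((DRing.LBaseChange ρ).obj X) :=
  (DRing.restrictD ρ).obj (𝟙_ (Dual.D R')) ◁ adjρ.unit.app X ≫ mAct ρ ((DRing.LBaseChange ρ).obj X)

theorem qP_natural {X Y : Dual.D R} (f : X ⟶ Y) :
    (DRing.restrictD ρ).obj (𝟙_ (Dual.D R')) ◁ f ≫ qP ρ adjρ Y =
      qP ρ adjρ X ≫ (DRing.restrictD ρ).map ((DRing.LBaseChange ρ).map f) := by
  rw [qP, qP, Category.assoc, ← mAct_natural, ← whiskerLeft_comp_assoc, ← whiskerLeft_comp_assoc]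
  congr 2
  exact adjρ.unit.naturality f

theorem isIso_qP (X : Dual.D R) : IsIso (qP ρ adjρ X) := by
  haveI : DTen.HasLBase ρ := ⟨⟨_, ⟨adjρ⟩⟩⟩
  have h : qP ρ adjρ X ≫ (DRing.restrictD ρ).map ((adjρ.leftAdjointUniq (DTen.baseAdj ρ)).hom.app X) =
      qProj ρ X := by
    rw [qP, qProj, Category.assoc, ← mAct_natural, ← whiskerLeft_comp_assoc]
    congr 2
    exact Adjunction.unit_leftAdjointUniq_hom_app adjρ (DTen.baseAdj ρ) X
  haveI := isIso_qProj ρ X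
  haveI : IsIso (qP ρ adjρ X ≫ (DRing.restrictD ρ).map ((adjρ.leftAdjointUniq (DTen.baseAdj ρ)).hom.app X)) := by
    rw [h]; infer_instance
  exact IsIso.of_isIso_comp_right _ ((DRing.restrictD ρ).map ((adjρ.leftAdjointUniq (DTen.baseAdj ρ)).hom.app X))

end QProj

section BAct

variable {R A : Type u} [CommRing R] [CommRing A] (φ : R →+* A)
  [DTen.HasLTen R] [DTen.HasLTen₃ R] [DTen.IsSymMonoidal R]
  [DTen.HasLTen A] [DTen.HasLTen₃ A] [DTen.IsSymMonoidal A] [DTen.HasResTen φ] [DTen.ResLegIso φ]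

/-- The action of the restricted unit, on the right. -/
noncomputable def bAct (V : Dual.D A) :
    (DRing.restrictD φ).obj V ⊗ (DRing.restrictD φ).obj (𝟙_ (Dual.D A)) ⟶ (DRing.restrictD φ).obj V :=
  (β_ _ _).hom ≫ mAct φ V

theorem bAct_natural {V W : Dual.D A} (f : V ⟶ W) :
    (DRing.restrictD φ).map f ▷ (DRing.restrictD φ).obj (𝟙_ (Dual.D A)) ≫ bAct φ W =
      bAct φ V ≫ (DRing.restrictD φ).map f := by
  rw [bAct, bAct, Category.assoc, braiding_naturality_left_assoc, mAct_natural]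

theorem bAct_Q (Y : DRing.Cx A) :
    bAct φ (DerivedCategory.Q.obj Y) ≫ rF φ Y =
      (rF φ Y ⊗ₘ rF φ (𝟙_ (DRing.Cx A))) ≫ μ ((DTen.resCx φ).obj Y) ((DTen.resCx φ).obj (𝟙_ (DRing.Cx A))) ≫
        DerivedCategory.Q.map ((DTen.braidCx _ _).hom ≫ ResCx.aCx φ Y) := by
  rw [bAct, Category.assoc, mAct_Q, Functor.map_comp]
  erw [← reassoc_of% (GrothLib.DT.braid_natural (rF φ Y) (rF φ (𝟙_ (DRing.Cx A)))),
    reassoc_of% (braid_fac ((DTen.resCx φ).obj Y) ((DTen.resCx φ).obj (𝟙_ (DRing.Cx A))))]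

end BAct

variable {R A R' A' : Type u} [CommRing R] [CommRing A] [CommRing R'] [CommRing A']
  {φ : R →+* A} {ρ : R →+* R'} {α : A →+* A'} {φ' : R' →+* A'} (h : α.comp φ = φ'.comp ρ)

/-- The identification of the iterated restriction of a complex. -/
noncomputable def ν (φ : R →+* A) (α : A →+* A') (Y : DRing.Cx A') :
    (DRing.restrictD φ).obj ((DRing.restrictD α).obj (DerivedCategory.Q.obj Y)) ⟶
      DerivedCategory.Q.obj ((DTen.resCx φ).obj ((DTen.resCx α).obj Y)) :=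
  (DRing.restrictD φ).map (rF α Y) ≫ rF φ ((DTen.resCx α).obj Y)

instance isIso_ν (φ : R →+* A) (α : A →+* A') (Y : DRing.Cx A') : IsIso (ν φ α Y) := by
  unfold ν
  infer_instance

theorem θCx_inv (Y : DRing.Cx A') : θCx φ ρ α φ' h Y ≫ θCx ρ φ φ' α h.symm Y = 𝟙 _ := rfl

theorem θCx_inv' (Y : DRing.Cx A') : θCx ρ φ φ' α h.symm Y ≫ θCx φ ρ α φ' h Y = 𝟙 _ := rfl

theorem resComm_hom_ν (Y : DRing.Cx A') :
    (TrivBC.resComm h).hom.app (DerivedCategory.Q.obj Y) ≫ ν ρ φ' Y =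
      ν φ α Y ≫ DerivedCategory.Q.map (θCx φ ρ α φ' h Y) := by
  rw [GrothLib.DR.resComm_hom_app]
  simp only [ν, Category.assoc, rF, DTen.resFactors, ← Functor.map_comp_assoc]
  erw [Iso.inv_hom_id_app, CategoryTheory.Functor.map_id, Category.id_comp,
    Iso.inv_hom_id_app, Category.comp_id]
  rfl

theorem resComm_inv_ν (Y : DRing.Cx A') :
    (TrivBC.resComm h).inv.app (DerivedCategory.Q.obj Y) ≫ ν φ α Y =
      ν ρ φ' Y ≫ DerivedCategory.Q.map (θCx ρ φ φ' α h.symm Y) := by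
  rw [← cancel_epi ((TrivBC.resComm h).hom.app (DerivedCategory.Q.obj Y)), Iso.hom_inv_id_app_assoc,
    reassoc_of% (resComm_hom_ν h Y), ← Functor.map_comp, θCx_inv, CategoryTheory.Functor.map_id]
  exact (Category.comp_id _).symm

variable [DTen.HasLTen R] [DTen.HasLTen₃ R] [DTen.IsSymMonoidal R]
  [DTen.HasLTen R'] [DTen.HasLTen₃ R'] [DTen.IsSymMonoidal R'] [DTen.HasResTen ρ] [DTen.ResLegIso ρ]

/-- The action of `R'` on an object over `A'` restricted to `R` through `A`. -/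
noncomputable def sAct (W : Dual.D A') :
    (DRing.restrictD ρ).obj (𝟙_ (Dual.D R')) ⊗ (DRing.restrictD φ).obj ((DRing.restrictD α).obj W) ⟶
      (DRing.restrictD φ).obj ((DRing.restrictD α).obj W) :=
  (DRing.restrictD ρ).obj (𝟙_ (Dual.D R')) ◁ (TrivBC.resComm h).hom.app W ≫
    mAct ρ ((DRing.restrictD φ').obj W) ≫ (TrivBC.resComm h).inv.app W

theorem sAct_natural {V W : Dual.D A'} (f : V ⟶ W) :
    (DRing.restrictD ρ).obj (𝟙_ (Dual.D R')) ◁ (DRing.restrictD φ).map ((DRing.restrictD α).map f) ≫ sAct h W =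
      sAct h V ≫ (DRing.restrictD φ).map ((DRing.restrictD α).map f) := by
  rw [sAct, sAct, ← whiskerLeft_comp_assoc]
  erw [(TrivBC.resComm h).hom.naturality f]
  rw [whiskerLeft_comp_assoc]
  erw [reassoc_of% (mAct_natural ρ ((DRing.restrictD φ').map f))]
  simp only [Category.assoc]
  congr 2
  exact (TrivBC.resComm h).inv.naturality f

theorem sAct_Q (Y : DRing.Cx A') :
    sAct h (DerivedCategory.Q.obj Y) ≫ ν φ α Y =
      (rF ρ (𝟙_ (DRing.Cx R')) ⊗ₘ ν φ α Y) ≫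
        μ ((DTen.resCx ρ).obj (𝟙_ (DRing.Cx R'))) ((DTen.resCx φ).obj ((DTen.resCx α).obj Y)) ≫
          DerivedCategory.Q.map (sCx φ ρ α φ' h Y) := by
  have hs := θCx φ ρ α φ' h Y
  rw [sAct, Category.assoc, Category.assoc, resComm_inv_ν]
  have e1 : mAct ρ ((DRing.restrictD φ').obj (DerivedCategory.Q.obj Y)) ≫ ν ρ φ' Y =
      (rF ρ (𝟙_ (DRing.Cx R')) ⊗ₘ ν ρ φ' Y) ≫ μ _ _ ≫
        DerivedCategory.Q.map (ResCx.aCx ρ ((DTen.resCx φ').obj Y)) := by
    rw [ν, ← reassoc_of% (mAct_natural ρ (rF φ' Y)), mAct_Q, ← id_tensorHom, tensorHom_comp_tensorHom_assoc,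
      Category.id_comp]
  rw [reassoc_of% e1, ← id_tensorHom, tensorHom_comp_tensorHom_assoc, Category.id_comp, resComm_hom_ν,
    ← Category.comp_id (rF ρ (𝟙_ (DRing.Cx R'))), ← tensorHom_comp_tensorHom_assoc, Category.comp_id,
    reassoc_of% (μ_natural_left ((DTen.resCx ρ).obj (𝟙_ (DRing.Cx R'))) (θCx φ ρ α φ' h Y)),
    ← Functor.map_comp, ← Functor.map_comp, sCx]

variable [DTen.HasLTen A] [DTen.HasLTen₃ A] [DTen.IsSymMonoidal A] [DTen.HasResTen φ] [DTen.ResLegIso φ]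

/-- The two actions commute. -/
theorem sAct_bAct (W : Dual.D A') :
    sAct h W ▷ (DRing.restrictD φ).obj (𝟙_ (Dual.D A)) ≫ bAct φ ((DRing.restrictD α).obj W) =
      (α_ _ _ _).hom ≫ (DRing.restrictD ρ).obj (𝟙_ (Dual.D R')) ◁ bAct φ ((DRing.restrictD α).obj W) ≫
        sAct h W := by
  obtain ⟨Y, -, ⟨e⟩⟩ := exists_Q_iso W
  let f := (DRing.restrictD φ).map ((DRing.restrictD α).map e.hom)
  let S := (DRing.restrictD ρ).obj (𝟙_ (Dual.D R'))
  let B := (DRing.restrictD φ).obj (𝟙_ (Dual.D A))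
  rw [← cancel_epi ((S ◁ f) ▷ B)]
  have hb : f ▷ B ≫ bAct φ ((DRing.restrictD α).obj W) =
      bAct φ ((DRing.restrictD α).obj (DerivedCategory.Q.obj Y)) ≫ f := bAct_natural φ _
  have hs : S ◁ f ≫ sAct h W = sAct h (DerivedCategory.Q.obj Y) ≫ f := sAct_natural h e.hom
  rw [← comp_whiskerRight_assoc, hs, comp_whiskerRight, Category.assoc, hb, associator_naturality_middle_assoc,
    ← whiskerLeft_comp_assoc, hb, whiskerLeft_comp_assoc, hs]
  suffices key : sAct h (DerivedCategory.Q.obj Y) ▷ B ≫ bAct φ ((DRing.restrictD α).obj (DerivedCategory.Q.obj Y)) =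
      (α_ _ _ _).hom ≫ S ◁ bAct φ ((DRing.restrictD α).obj (DerivedCategory.Q.obj Y)) ≫
        sAct h (DerivedCategory.Q.obj Y) by
    rw [reassoc_of% key]
  rw [← cancel_mono (ν φ α Y)]
  simp only [Category.assoc]
  let rS := rF ρ (𝟙_ (DRing.Cx R'))
  let rB := rF φ (𝟙_ (DRing.Cx A))
  have eb : bAct φ ((DRing.restrictD α).obj (DerivedCategory.Q.obj Y)) ≫ ν φ α Y =
      (ν φ α Y ⊗ₘ rB) ≫ μ _ _ ≫ DerivedCategory.Q.map ((DTen.braidCx _ _).hom ≫ ResCx.aCx φ ((DTen.resCx α).obj Y)) := by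
    rw [ν, ← reassoc_of% (bAct_natural φ (rF α Y)), bAct_Q, ← tensorHom_id, tensorHom_comp_tensorHom_assoc,
      Category.id_comp]
  rw [eb, sAct_Q]
  have hl : sAct h (DerivedCategory.Q.obj Y) ▷ B ≫ (ν φ α Y ⊗ₘ rB) =
      ((rS ⊗ₘ ν φ α Y) ⊗ₘ rB) ≫ (μ _ _ ⊗ₘ 𝟙 _) ≫ (DerivedCategory.Q.map (sCx φ ρ α φ' h Y) ⊗ₘ 𝟙 _) := by
    rw [← tensorHom_id, tensorHom_comp_tensorHom, sAct_Q, tensorHom_comp_tensorHom, tensorHom_comp_tensorHom]
    simp only [Category.comp_id, Category.id_comp, rS]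
  have hr : S ◁ bAct φ ((DRing.restrictD α).obj (DerivedCategory.Q.obj Y)) ≫ (rS ⊗ₘ ν φ α Y) =
      (rS ⊗ₘ (ν φ α Y ⊗ₘ rB)) ≫ (𝟙 _ ⊗ₘ μ _ _) ≫
        (𝟙 _ ⊗ₘ DerivedCategory.Q.map ((DTen.braidCx _ _).hom ≫ ResCx.aCx φ ((DTen.resCx α).obj Y))) := by
    rw [← id_tensorHom, tensorHom_comp_tensorHom, eb, tensorHom_comp_tensorHom, tensorHom_comp_tensorHom]
    simp only [Category.comp_id, Category.id_comp]
  rw [reassoc_of% hl, reassoc_of% hr, reassoc_of% (μ_natural_right (sCx φ ρ α φ' h Y) _), ← Functor.map_comp,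
    reassoc_of% (μ_natural_left ((DTen.resCx ρ).obj (𝟙_ (DRing.Cx R')))
      ((DTen.braidCx _ _).hom ≫ ResCx.aCx φ ((DTen.resCx α).obj Y))), ← Functor.map_comp, actions_commute φ ρ α φ' h Y]
  erw [← reassoc_of% (assoc_natural rS (ν φ α Y) rB)]
  erw [reassoc_of% (assoc_fac ((DTen.resCx ρ).obj (𝟙_ (DRing.Cx R'))) ((DTen.resCx φ).obj ((DTen.resCx α).obj Y))
    ((DTen.resCx φ).obj (𝟙_ (DRing.Cx A))))]
  rw [← Functor.map_comp]

end GrothLib.TrivBC22
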