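import Groth.Agent.Lib.DTen.ResCx
import Groth.Agent.Lib.DCxRing.TorIndepSquare

/-! # The two actions on a complex restricted along a commutative square commute -/

set_option autoImplicit false
set_option maxHeartbeats 800000
set_option backward.isDefEq.respectTransparency false
universe u

open CategoryTheory CategoryTheory.Limits MonoidalCategory HomologicalComplex GrothLib.RH GrothLib.DT
open scoped TensorProduct

attribute [local instance] HasDerivedCategory.standard

namespace GrothLib.TrivBC22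

open DTen

variable {R A R' A' : Type u} [CommRing R] [CommRing A] [CommRing R'] [CommRing A']
  (φ : R →+* A) (ρ : R →+* R') (α : A →+* A') (φ' : R' →+* A') (h : α.comp φ = φ'.comp ρ)

/-- The identification of the two restrictions. -/
noncomputable def θCx (X : DRing.Cx A') :
    (resCx φ).obj ((resCx α).obj X) ⟶ (resCx ρ).obj ((resCx φ').obj X) :=
  GrothLib.DR.resTheta h X

theorem θCx_apply (X : DRing.Cx A') (q : ℤ) (x : X.X q) :
    (show X.X q from (θCx φ ρ α φ' h X).f q x) = x := rfl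

/-- The action of `R'` on a complex over `A'` restricted to `R` through `A`. -/
noncomputable def sCx (X : DRing.Cx A') :
    (resCx ρ).obj (𝟙_ (DRing.Cx R')) ⊗ (resCx φ).obj ((resCx α).obj X) ⟶ (resCx φ).obj ((resCx α).obj X) :=
  (resCx ρ).obj (𝟙_ (DRing.Cx R')) ◁ θCx φ ρ α φ' h X ≫ ResCx.aCx ρ ((resCx φ').obj X) ≫
    θCx ρ φ φ' α h.symm X

theorem sCx_ι (X : DRing.Cx A') (q : ℤ) (c : (𝟙_ (DRing.Cx R')).X 0) (x : X.X q) :
    (show X.X q from (sCx φ ρ α φ' h X).f q (ιT ((resCx ρ).obj (𝟙_ (DRing.Cx R'))) ((resCx φ).obj ((resCx α).obj X)) 0 q q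
        (zero_add q) ((show ((resCx ρ).obj (𝟙_ (DRing.Cx R'))).X 0 from c) ⊗ₜ[R]
          (show ((resCx φ).obj ((resCx α).obj X)).X q from x)))) =
      φ' (Cx.scal c) • x := by
  have h1 := Cx.whiskerLeft_ι ((resCx ρ).obj (𝟙_ (DRing.Cx R'))) (θCx φ ρ α φ' h X) 0 q q (zero_add q) c x
  have h2 := ResCx.aCx_ι ρ ((resCx φ').obj X) q c x
  change (show X.X q from (θCx ρ φ φ' α h.symm X).f q ((ResCx.aCx ρ ((resCx φ').obj X)).f q
    (((resCx ρ).obj (𝟙_ (DRing.Cx R')) ◁ θCx φ ρ α φ' h X).f q _))) = _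
  rw [h1]
  erw [h2]
  rfl

/-- The actions of `R'` and of `A` commute. -/
theorem actions_commute (X : DRing.Cx A') :
    sCx φ ρ α φ' h X ▷ (resCx φ).obj (𝟙_ (DRing.Cx A)) ≫
        (braidCx ((resCx φ).obj ((resCx α).obj X)) ((resCx φ).obj (𝟙_ (DRing.Cx A)))).hom ≫
          ResCx.aCx φ ((resCx α).obj X) =
      (α_ ((resCx ρ).obj (𝟙_ (DRing.Cx R'))) ((resCx φ).obj ((resCx α).obj X))
          ((resCx φ).obj (𝟙_ (DRing.Cx A)))).hom ≫
        (resCx ρ).obj (𝟙_ (DRing.Cx R')) ◁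
          ((braidCx ((resCx φ).obj ((resCx α).obj X)) ((resCx φ).obj (𝟙_ (DRing.Cx A)))).hom ≫
            ResCx.aCx φ ((resCx α).obj X)) ≫ sCx φ ρ α φ' h X := by
  refine HomologicalComplex.hom_ext _ _ fun n => Cx.hom_ext₃ fun p q r hs c x d => ?_
  by_cases hp : p = 0
  · subst hp
    by_cases hr : r = 0
    · subst hr
      let B := (resCx φ).obj (𝟙_ (DRing.Cx A))
      let S := (resCx ρ).obj (𝟙_ (DRing.Cx R'))
      let P := (resCx φ).obj ((resCx α).obj X)
      have one : ∀ q : ℤ, ((q * 0).negOnePow : ℤ) = 1 := fun q => by simp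
      have key : ∀ (pq : ℤ) (hpq : 0 + q = pq) (hs : pq + 0 = n),
          (ResCx.aCx φ ((resCx α).obj X)).f n ((braidCx P B).hom.f n ((sCx φ ρ α φ' h X ▷ B).f n
            (ιT (tens S P) B pq 0 n hs (ιT S P 0 q pq hpq (c ⊗ₜ x) ⊗ₜ d)))) =
          (sCx φ ρ α φ' h X).f n ((S ◁ ((braidCx P B).hom ≫ ResCx.aCx φ ((resCx α).obj X))).f n
            ((α_ S P B).hom.f n (ιT (tens S P) B pq 0 n hs (ιT S P 0 q pq hpq (c ⊗ₜ x) ⊗ₜ d)))) := by
        intro pq hpq hs
        obtain rfl : q = pq := by omega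
        obtain rfl : q = n := by omega
        have hb : ∀ y : P.X q, (ResCx.aCx φ ((resCx α).obj X)).f q ((braidCx P B).hom.f q
            (ιT P B q 0 q (add_zero q) (y ⊗ₜ d))) = (α (Cx.scal (R := A) d) • (show X.X q from y) : X.X q) := fun y =>
          (congrArg ((ResCx.aCx φ ((resCx α).obj X)).f q) ((Cx.braidCx_ι P B q 0 q (add_zero q) y d).trans
            ((congrArg (· • _) (one q)).trans (one_smul ℤ _)))).trans
              (ResCx.aCx_ι φ ((resCx α).obj X) q d y)
        have hl : (ResCx.aCx φ ((resCx α).obj X)).f q ((braidCx P B).hom.f q ((sCx φ ρ α φ' h X ▷ B).f q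
            (ιT (tens S P) B q 0 q hs (ιT S P 0 q q hpq (c ⊗ₜ x) ⊗ₜ d)))) =
            (α (Cx.scal (R := A) d) • φ' (Cx.scal (R := R') c) • (show X.X q from x) : X.X q) :=
          (congrArg (fun t => (ResCx.aCx φ ((resCx α).obj X)).f q ((braidCx P B).hom.f q t))
            ((Cx.whiskerRight_ι (sCx φ ρ α φ' h X) B q 0 q hs _ d).trans
              (congrArg (fun t => ιT P B q 0 q hs (t ⊗ₜ d)) (sCx_ι φ ρ α φ' h X q c x)))).trans (hb _)
        have hr : (sCx φ ρ α φ' h X).f q ((S ◁ ((braidCx P B).hom ≫ ResCx.aCx φ ((resCx α).obj X))).f q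
            ((α_ S P B).hom.f q (ιT (tens S P) B q 0 q hs (ιT S P 0 q q hpq (c ⊗ₜ x) ⊗ₜ d)))) =
            (φ' (Cx.scal (R := R') c) • α (Cx.scal (R := A) d) • (show X.X q from x) : X.X q) :=
          (congrArg ((sCx φ ρ α φ' h X).f q)
            ((congrArg ((S ◁ ((braidCx P B).hom ≫ ResCx.aCx φ ((resCx α).obj X))).f q)
              (Cx.associator_ι S P B 0 q 0 q q q hpq (add_zero q) hs (zero_add q) c x d)).trans
            ((Cx.whiskerLeft_ι S _ 0 q q (zero_add q) c _).trans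
              (congrArg (fun t => ιT S P 0 q q (zero_add q) (c ⊗ₜ t)) (hb x))))).trans
            (sCx_ι φ ρ α φ' h X q c _)
        exact hl.trans ((smul_comm _ _ _).trans hr.symm)
      exact key (0 + q) rfl hs
    · obtain rfl : d = 0 := ResCx.eq_zero_of_ne (R' := A) r hr d
      change ((sCx φ ρ α φ' h X ▷ _ ≫ _).f n) _ = _
      erw [TensorProduct.tmul_zero, map_zero, map_zero, map_zero]
  · obtain rfl : c = 0 := ResCx.eq_zero_of_ne (R' := R') p hp c
    change ((sCx φ ρ α φ' h X ▷ _ ≫ _).f n) _ = _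
    erw [TensorProduct.zero_tmul, map_zero, TensorProduct.zero_tmul, map_zero, map_zero, map_zero]

end GrothLib.TrivBC22
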