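import Groth.Agent.Lib.RHomInj22.TildeHom
import Groth.Agent.Lib.DTen.Monoidal
import Mathlib.Algebra.Homology.DerivedCategory.KInjective
import Mathlib.CategoryTheory.Adjunction.PartialAdjoint

/-! # The derived category of modules is closed

`- ⊗^L L` has a right adjoint: on a K-flat `P` representing `L` and a K-injective `I`, it is the complex of
homomorphisms from `P` to `I`.
-/

set_option autoImplicit false
set_option maxHeartbeats 800000
universe u

open CategoryTheory CategoryTheory.Limits MonoidalCategory HomologicalComplex CochainComplex.HomComplex Opposite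

attribute [local instance] HasDerivedCategory.standard

namespace GrothLib.TrivBC22

variable {A : Type u} [CommRing A]

local notation "Q" => (DerivedCategory.Q : DRing.Cx A ⥤ Dual.D A)

theorem Q_map_surjective {K I : DRing.Cx A} [I.IsKInjective] (f : (Q).obj K ⟶ (Q).obj I) :
    ∃ g : K ⟶ I, (Q).map g = f := by
  let e := DerivedCategory.quotientCompQhIso (ModuleCat.{u} A)
  obtain ⟨g', hg⟩ := (CochainComplex.IsKInjective.Qh_map_bijective
    ((HomotopyCategory.quotient _ _).obj K) I).surjective (e.hom.app K ≫ f ≫ e.inv.app I)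
  obtain ⟨g, rfl⟩ := (HomotopyCategory.quotient _ _).map_surjective g'
  refine ⟨g, ?_⟩
  rw [← cancel_epi (e.hom.app K), ← e.hom.naturality, Functor.comp_map, hg, Category.assoc, Category.assoc,
    e.inv_hom_id_app]
  exact congrArg (e.hom.app K ≫ ·) (Category.comp_id f)

theorem Q_map_eq_iff {K I : DRing.Cx A} [I.IsKInjective] (f g : K ⟶ I) :
    (Q).map f = (Q).map g ↔ Nonempty (Homotopy f g) := by
  let e := DerivedCategory.quotientCompQhIso (ModuleCat.{u} A)
  rw [← cancel_epi (e.hom.app K), ← e.hom.naturality, ← e.hom.naturality, cancel_mono, Functor.comp_map,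
    Functor.comp_map]
  refine ((CochainComplex.IsKInjective.Qh_map_bijective _ I).injective.eq_iff).trans ?_
  exact ⟨fun h => ⟨HomotopyCategory.homotopyOfEq _ _ h⟩, fun ⟨h⟩ => HomotopyCategory.eq_of_homotopy _ _ h⟩

open GrothLib.RHomInj22 in
theorem nonempty_homotopy_curry (K P M : DRing.Cx A) (g g' : K ⟶ DRing.homCx P M)
    (h : Homotopy ((tensHomEquiv K P M).symm g) ((tensHomEquiv K P M).symm g')) : Nonempty (Homotopy g g') := by
  have hc : ∀ x : K ⟶ DRing.homCx P M, Cochain.ofHom ((tensHomEquiv K P M).symm x) =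
      RH.assocEquiv K P M 0 (Cochain.ofHom x) := fun x => by
    simp only [tensHomEquiv, Equiv.coe_fn_symm_mk, Cocycle.cochain_ofHom_homOf_eq_coe, Cocycle.mk_coe]
  obtain ⟨z, hz⟩ := Cochain.equivHomotopy _ _ h
  rw [hc, hc] at hz
  obtain ⟨z', rfl⟩ := (RH.assocEquiv K P M (-1)).surjective z
  rw [RH.assocEquiv_δ' K P M (-1) 0 rfl, ← map_add] at hz
  exact ⟨(Cochain.equivHomotopy g g').symm ⟨z', (RH.assocEquiv K P M 0).injective hz⟩⟩

open GrothLib.DT GrothLib.RHomInj22

/-- The derived category of modules is closed. -/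
theorem hasRHom (A : Type u) [CommRing A] [DTen.HasLTen A] : DTen.HasRHom A := by
  haveI := GrothLib.DT.hasLTen₃ A
  haveI := GrothLib.DT.isSymMonoidal A
  refine ⟨fun L => ?_⟩
  suffices ∀ M : Dual.D A, (DTen.tensorRightD A L).rightAdjointObjIsDefined M from
    Functor.isLeftAdjoint_of_rightAdjointObjIsDefined_eq_top (by ext M; simpa using this M)
  intro M
  obtain ⟨P, hP, ⟨eL⟩⟩ := exists_Q_iso L
  obtain ⟨I, hI, ⟨eM⟩⟩ := GrothLib.RH.exists_kInjective_rep M
  haveI := hI
  haveI := GrothLib.RH.isKInjective_homCx P I hP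
  let H := DRing.homCx P I
  let c : H ⊗ P ⟶ I := (tensHomEquiv H P I).symm (𝟙 H)
  let v : DerivedCategory.Q.obj H ⊗ L ⟶ M :=
    DerivedCategory.Q.obj H ◁ eL.inv ≫ μ H P ≫ DerivedCategory.Q.map c ≫ eM.inv
  have bij : ∀ X : Dual.D A, Function.Bijective fun t : X ⟶ DerivedCategory.Q.obj H => t ▷ L ≫ v := by
    intro X
    obtain ⟨K, hK, ⟨eX⟩⟩ := exists_Q_iso X
    haveI := isIso_μ hK P
    have key : ∀ g : K ⟶ H, (eX.inv ≫ DerivedCategory.Q.map g) ▷ L ≫ v =
        eX.inv ▷ L ≫ DerivedCategory.Q.obj K ◁ eL.inv ≫ μ K P ≫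
          DerivedCategory.Q.map ((tensHomEquiv K P I).symm g) ≫ eM.inv := fun g => by
      have hg : (tensHomEquiv K P I).symm g = g ▷ P ≫ c := by
        conv_lhs => rw [← Category.comp_id g]
        exact uncurry_natural g P I (𝟙 H)
      rw [comp_whiskerRight, Category.assoc, ← whisker_exchange_assoc, hg, Functor.map_comp, Category.assoc,
        ← reassoc_of% (μ_natural_right g P), tensorHom_id]
    refine ⟨fun t t' ht => ?_, fun w => ?_⟩
    · obtain ⟨g, hg⟩ := Q_map_surjective (eX.hom ≫ t)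
      obtain ⟨g', hg'⟩ := Q_map_surjective (eX.hom ≫ t')
      obtain rfl : t = eX.inv ≫ DerivedCategory.Q.map g := by rw [hg, Iso.inv_hom_id_assoc]
      obtain rfl : t' = eX.inv ≫ DerivedCategory.Q.map g' := by rw [hg', Iso.inv_hom_id_assoc]
      simp only [key, cancel_epi, cancel_mono] at ht
      obtain ⟨h⟩ := (Q_map_eq_iff _ _).1 ht
      rw [(Q_map_eq_iff g g').2 (nonempty_homotopy_curry K P I g g' h)]
    · obtain ⟨f, hf⟩ := Q_map_surjective (inv (μ K P) ≫ DerivedCategory.Q.obj K ◁ eL.hom ≫ eX.hom ▷ L ≫ w ≫ eM.hom)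
      refine ⟨eX.inv ≫ DerivedCategory.Q.map (tensHomEquiv K P I f), ?_⟩
      change _ ▷ L ≫ v = w
      rw [key, Equiv.symm_apply_apply, hf]
      simp only [Category.assoc, IsIso.hom_inv_id_assoc, Iso.hom_inv_id, Category.comp_id,
        whiskerLeft_inv_hom_assoc, inv_hom_whiskerRight_assoc]
  rw [Functor.rightAdjointObjIsDefined_iff]
  exact Functor.RepresentableBy.isRepresentable
    { homEquiv := fun {X} => Equiv.ofBijective _ (bij X)
      homEquiv_comp := fun {X X'} f t => by
        change (f ≫ t) ▷ L ≫ v = f ▷ L ≫ t ▷ L ≫ v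
        rw [comp_whiskerRight, Category.assoc] }

end GrothLib.TrivBC22
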