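import Groth.Agent.Lib.TrivBC22.Actions
import Groth.Agent.Lib.DTen.ClosedD

/-! # Base change of trivial duality and the evaluation map -/

set_option autoImplicit false
set_option maxHeartbeats 1000000
set_option backward.isDefEq.respectTransparency false
universe u

open CategoryTheory CategoryTheory.Limits MonoidalCategory BraidedCategory GrothLib.DT

attribute [local instance] HasDerivedCategory.standard

namespace GrothLib.TrivBC22

section Gamma

variable {R A : Type u} [CommRing R] [CommRing A] (φ : R →+* A)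
  [DTen.HasLTen R] [DTen.HasLTen₃ R] [DTen.IsSymMonoidal R] [DTen.HasRHom R]
  [DTen.HasLTen A] [DTen.HasLTen₃ A] [DTen.IsSymMonoidal A] [DTen.HasResTen φ] [DTen.ResLegIso φ]
  {Rφ : Dual.D R ⥤ Dual.D A} (adj : DRing.restrictD φ ⊣ Rφ)

/-- Trivial duality is the internal hom out of the restricted unit. -/
noncomputable def Γ (M : Dual.D R) :
    (DRing.restrictD φ).obj (Rφ.obj M) ⟶
      (DTen.RHomR R ((DRing.restrictD φ).obj (𝟙_ (Dual.D A)))).obj M :=
  DTen.rhomHomEquiv _ _ _ (bAct φ (Rφ.obj M) ≫ adj.counit.app M)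

theorem Γ_ev (M : Dual.D R) :
    Γ φ adj M ▷ (DRing.restrictD φ).obj (𝟙_ (Dual.D A)) ≫ DTen.ev _ M = bAct φ (Rφ.obj M) ≫ adj.counit.app M := by
  rw [← rhom_symm]
  exact Equiv.symm_apply_apply _ _

theorem isIso_Γ [DTen.HasLBase φ] (M : Dual.D R) : IsIso (Γ φ adj M) := by
  refine (isIso_iff_yoneda_map_bijective _).2 fun X => ?_
  haveI := isIso_qProj φ X
  let B := (DRing.restrictD φ).obj (𝟙_ (Dual.D A))
  let c : X ⊗ B ≅ (DRing.restrictD φ).obj ((DTen.LBase φ).obj X) := β_ X B ≪≫ asIso (qProj φ X)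
  let e : (X ⟶ (DRing.restrictD φ).obj (Rφ.obj M)) ≃ (X ⟶ (DTen.RHomR R B).obj M) :=
    (((DTen.baseAdj φ).homEquiv X (Rφ.obj M)).symm.trans (adj.homEquiv _ M).symm).trans
      ((Iso.homFromEquiv c.symm).trans (DTen.rhomHomEquiv X B M))
  have he : (fun t : X ⟶ (DRing.restrictD φ).obj (Rφ.obj M) => t ≫ Γ φ adj M) = e := by
    funext t
    obtain ⟨v, rfl⟩ := ((DTen.baseAdj φ).homEquiv X _).surjective t
    simp only [e, Equiv.trans_apply, Equiv.symm_apply_apply, Adjunction.homEquiv_counit]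
    refine (Equiv.symm_apply_eq _).1 ?_
    erw [rhom_symm]
    rw [comp_whiskerRight, Category.assoc, Γ_ev, bAct, Category.assoc,
      braiding_naturality_left_assoc, Adjunction.homEquiv_unit, whiskerLeft_comp_assoc,
      reassoc_of% (mAct_natural φ v)]
    simp [c, qProj, B]
  rw [he]
  exact e.bijective

end Gamma

variable {R A R' A' : Type u} [CommRing R] [CommRing A] [CommRing R'] [CommRing A']
  {φ : R →+* A} {ρ : R →+* R'} {α : A →+* A'} {φ' : R' →+* A'}
  [DRing.HasLBaseChange ρ] [DRing.HasLBaseChange α]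
  (adjρ : DRing.LBaseChange ρ ⊣ DRing.restrictD ρ) (adjα : DRing.LBaseChange α ⊣ DRing.restrictD α)
  (h : α.comp φ = φ'.comp ρ) {Rφ : Dual.D R ⥤ Dual.D A} (adj : DRing.restrictD φ ⊣ Rφ)
  {Rφ' : Dual.D R' ⥤ Dual.D A'} (adj' : DRing.restrictD φ' ⊣ Rφ')

/-- The mate of the commutation for the right adjoints. -/
noncomputable def mate (L : Dual.D R') :
    (DRing.restrictD α).obj (Rφ'.obj L) ⟶ Rφ.obj ((DRing.restrictD ρ).obj L) :=
  adj.homEquiv _ _ ((TrivBC.resComm h).hom.app (Rφ'.obj L) ≫ (DRing.restrictD ρ).map (adj'.counit.app L))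

theorem isIso_mate (hcmp : ∀ X : Dual.D A, IsIso (TrivBC.cmp adjρ adjα h X)) (L : Dual.D R') :
    IsIso (mate h adj adj' L) := by
  refine (isIso_iff_yoneda_map_bijective _).2 fun X => ?_
  let e : (X ⟶ (DRing.restrictD α).obj (Rφ'.obj L)) ≃ (X ⟶ Rφ.obj ((DRing.restrictD ρ).obj L)) :=
    ((adjα.homEquiv X (Rφ'.obj L)).symm.trans (adj'.homEquiv _ L).symm).trans
      ((Iso.homFromEquiv (@asIso _ _ _ _ (TrivBC.cmp adjρ adjα h X) (hcmp X)).symm).trans
        ((adjρ.homEquiv _ L).trans (adj.homEquiv _ _)))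
  have he : (fun t : X ⟶ (DRing.restrictD α).obj (Rφ'.obj L) => t ≫ mate h adj adj' L) = e := by
    funext t
    obtain ⟨v, rfl⟩ := (adjα.homEquiv X _).surjective t
    simp only [e, Equiv.trans_apply, Equiv.symm_apply_apply, Adjunction.homEquiv_counit]
    rw [mate, ← Adjunction.homEquiv_naturality_left]
    congr 1
    change _ = adjρ.homEquiv _ _ (TrivBC.cmp adjρ adjα h X ≫ _)
    rw [Adjunction.homEquiv_naturality_right, TrivBC.cmp, Equiv.apply_symm_apply, Adjunction.homEquiv_unit,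
      Functor.map_comp, Functor.map_comp, Category.assoc, Category.assoc]
    congr 1
    erw [reassoc_of% ((TrivBC.resComm h).hom.naturality v)]
  rw [he]
  exact e.bijective

variable [DTen.HasLTen R] [DTen.HasLTen₃ R] [DTen.IsSymMonoidal R] [DTen.HasRHom R]
  [DTen.HasLTen R'] [DTen.HasLTen₃ R'] [DTen.IsSymMonoidal R'] [DTen.HasResTen ρ] [DTen.ResLegIso ρ]
  [DTen.HasLTen A] [DTen.HasLTen₃ A] [DTen.IsSymMonoidal A] [DTen.HasResTen φ] [DTen.ResLegIso φ]

/-- The identification of `R' ⊗ E` with the base change of `E`. -/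
noncomputable def jMap (E : Dual.D A) :
    (DRing.restrictD ρ).obj (𝟙_ (Dual.D R')) ⊗ (DRing.restrictD φ).obj E ⟶
      (DRing.restrictD φ).obj ((DRing.restrictD α).obj ((DRing.LBaseChange α).obj E)) :=
  qP ρ adjρ ((DRing.restrictD φ).obj E) ≫ (DRing.restrictD ρ).map (TrivBC.cmp adjρ adjα h E) ≫
    (TrivBC.resComm h).inv.app ((DRing.LBaseChange α).obj E)

theorem jMap_eq (E : Dual.D A) :
    jMap adjρ adjα h E = (DRing.restrictD ρ).obj (𝟙_ (Dual.D R')) ◁ (DRing.restrictD φ).map (adjα.unit.app E) ≫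
      sAct h ((DRing.LBaseChange α).obj E) := by
  rw [jMap, qP, Category.assoc, ← reassoc_of% (mAct_natural ρ (TrivBC.cmp adjρ adjα h E)),
    ← whiskerLeft_comp_assoc,
    show adjρ.unit.app _ ≫ (DRing.restrictD ρ).map (TrivBC.cmp adjρ adjα h E) =
      (DRing.restrictD φ).map (adjα.unit.app E) ≫ (TrivBC.resComm h).hom.app _ from
        (adjρ.homEquiv_unit _ _ _).symm.trans (Equiv.apply_symm_apply _ _),
    whiskerLeft_comp_assoc]
  rfl

/-- The base change map of trivial duality, moved to `D(R)`, is the evaluation map. -/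
theorem jMap_evalTen (K : Dual.D R) (hc : IsIso (TrivBC.cmp adjρ adjα h (Rφ.obj K))) :
    jMap adjρ adjα h (Rφ.obj K) ≫ (DRing.restrictD φ).map
        ((DRing.restrictD α).map (TrivBC.bcMap adjρ adjα h adj adj' K hc) ≫
          mate h adj adj' ((DRing.LBaseChange ρ).obj K)) ≫
        Γ φ adj ((DRing.restrictD ρ).obj ((DRing.LBaseChange ρ).obj K)) =
      (DRing.restrictD ρ).obj (𝟙_ (Dual.D R')) ◁ Γ φ adj K ≫
        DTen.evalTen ((DRing.restrictD ρ).obj (𝟙_ (Dual.D R'))) K ((DRing.restrictD φ).obj (𝟙_ (Dual.D A))) ≫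
        (DTen.RHomR R ((DRing.restrictD φ).obj (𝟙_ (Dual.D A)))).map (qP ρ adjρ K) := by
  haveI := hc
  let S := (DRing.restrictD ρ).obj (𝟙_ (Dual.D R'))
  let B := (DRing.restrictD φ).obj (𝟙_ (Dual.D A))
  let E := Rφ.obj K
  let W := (DRing.LBaseChange α).obj E
  let τ := (DRing.restrictD α).map (TrivBC.bcMap adjρ adjα h adj adj' K hc) ≫
    mate h adj adj' ((DRing.LBaseChange ρ).obj K)
  have hτ : (DRing.restrictD φ).map τ ≫ adj.counit.app _ =
      (TrivBC.resComm h).hom.app W ≫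
        (DRing.restrictD ρ).map (inv (TrivBC.cmp adjρ adjα h E) ≫ (DRing.LBaseChange ρ).map (adj.counit.app K)) := by
    refine (adj.homEquiv_counit _ _ τ).symm.trans ?_
    rw [Adjunction.homEquiv_naturality_left_symm, mate, Equiv.symm_apply_apply]
    erw [reassoc_of% ((TrivBC.resComm h).hom.naturality (TrivBC.bcMap adjρ adjα h adj adj' K hc))]
    rw [← Functor.map_comp, ← Adjunction.homEquiv_counit, TrivBC.bcMap, Equiv.symm_apply_apply]
  apply (DTen.rhomHomEquiv _ _ _).symm.injective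
  rw [rhom_symm, rhom_symm]
  simp only [comp_whiskerRight, Category.assoc]
  rw [Γ_ev, reassoc_of% (bAct_natural φ τ), hτ,
    show (DTen.RHomR R B).map (qP ρ adjρ K) ▷ B ≫ DTen.ev B _ = DTen.ev B (S ⊗ K) ≫ qP ρ adjρ K from
      (DTen.rhomAdj R B).counit.naturality (qP ρ adjρ K),
    reassoc_of% (show DTen.evalTen S K B ▷ B ≫ DTen.ev B (S ⊗ K) = DTen.evalTenAux S K B from DTen.evalTen_fac S K B)]
  have haux : DTen.evalTenAux S K B = (α_ S ((DTen.RHomR R B).obj K) B).hom ≫ S ◁ DTen.ev B K := rfl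
  rw [haux, Category.assoc, associator_naturality_middle_assoc, ← whiskerLeft_comp_assoc, Γ_ev,
    whiskerLeft_comp_assoc, qP_natural]
  have hj : jMap adjρ adjα h E ▷ B ≫ bAct φ ((DRing.restrictD α).obj W) =
      (α_ _ _ _).hom ≫ S ◁ bAct φ E ≫ jMap adjρ adjα h E := by
    rw [jMap_eq, comp_whiskerRight, Category.assoc, sAct_bAct]
    erw [associator_naturality_middle_assoc]
    rw [← whiskerLeft_comp_assoc]
    erw [bAct_natural]
    rw [whiskerLeft_comp_assoc]
    rfl
  rw [reassoc_of% hj, jMap, Functor.map_comp]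
  simp only [Category.assoc]
  rw [Iso.inv_hom_id_app_assoc, ← Functor.map_comp_assoc (DRing.restrictD ρ), IsIso.hom_inv_id,
    CategoryTheory.Functor.map_id, Category.id_comp]

/-- The base change map of trivial duality is invertible exactly when the evaluation map is. -/
theorem isIso_bcMap_iff (hcmp : ∀ X : Dual.D A, IsIso (TrivBC.cmp adjρ adjα h X)) (K : Dual.D R)
    (hc : IsIso (TrivBC.cmp adjρ adjα h (Rφ.obj K))) :
    IsIso (TrivBC.bcMap adjρ adjα h adj adj' K hc) ↔
      IsIso (DTen.evalTen ((DRing.restrictD ρ).obj (𝟙_ (Dual.D R'))) K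
        ((DRing.restrictD φ).obj (𝟙_ (Dual.D A)))) := by
  haveI : DTen.HasLBase φ := GrothLib.DT.hasLBase φ
  haveI := hc
  haveI := isIso_mate adjρ adjα h adj adj' hcmp ((DRing.LBaseChange ρ).obj K)
  haveI := isIso_qP ρ adjρ K
  haveI := isIso_qP ρ adjρ ((DRing.restrictD φ).obj (Rφ.obj K))
  haveI : IsIso (jMap adjρ adjα h (Rφ.obj K)) := by unfold jMap; infer_instance
  haveI := isIso_Γ φ adj K
  haveI := isIso_Γ φ adj ((DRing.restrictD ρ).obj ((DRing.LBaseChange ρ).obj K))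
  have e := jMap_evalTen adjρ adjα h adj adj' K hc
  constructor
  · intro hb
    haveI := hb
    haveI : IsIso ((DRing.restrictD ρ).obj (𝟙_ (Dual.D R')) ◁ Γ φ adj K ≫
        DTen.evalTen ((DRing.restrictD ρ).obj (𝟙_ (Dual.D R'))) K ((DRing.restrictD φ).obj (𝟙_ (Dual.D A))) ≫
        (DTen.RHomR R ((DRing.restrictD φ).obj (𝟙_ (Dual.D A)))).map (qP ρ adjρ K)) := by
      rw [← e]; infer_instance
    have h2 := IsIso.of_isIso_comp_left ((DRing.restrictD ρ).obj (𝟙_ (Dual.D R')) ◁ Γ φ adj K)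
      (DTen.evalTen ((DRing.restrictD ρ).obj (𝟙_ (Dual.D R'))) K ((DRing.restrictD φ).obj (𝟙_ (Dual.D A))) ≫
        (DTen.RHomR R ((DRing.restrictD φ).obj (𝟙_ (Dual.D A)))).map (qP ρ adjρ K))
    exact IsIso.of_isIso_comp_right _
      ((DTen.RHomR R ((DRing.restrictD φ).obj (𝟙_ (Dual.D A)))).map (qP ρ adjρ K))
  · intro he
    haveI := he
    haveI h1 : IsIso (jMap adjρ adjα h (Rφ.obj K) ≫ (DRing.restrictD φ).map
        ((DRing.restrictD α).map (TrivBC.bcMap adjρ adjα h adj adj' K hc) ≫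
          mate h adj adj' ((DRing.LBaseChange ρ).obj K)) ≫
        Γ φ adj ((DRing.restrictD ρ).obj ((DRing.LBaseChange ρ).obj K))) := by
      rw [e]; infer_instance
    have h2 := IsIso.of_isIso_comp_left (jMap adjρ adjα h (Rφ.obj K)) ((DRing.restrictD φ).map
        ((DRing.restrictD α).map (TrivBC.bcMap adjρ adjα h adj adj' K hc) ≫
          mate h adj adj' ((DRing.LBaseChange ρ).obj K)) ≫
        Γ φ adj ((DRing.restrictD ρ).obj ((DRing.LBaseChange ρ).obj K)))
    have h3 := IsIso.of_isIso_comp_right ((DRing.restrictD φ).map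
        ((DRing.restrictD α).map (TrivBC.bcMap adjρ adjα h adj adj' K hc) ≫
          mate h adj adj' ((DRing.LBaseChange ρ).obj K)))
      (Γ φ adj ((DRing.restrictD ρ).obj ((DRing.LBaseChange ρ).obj K)))
    have h4 := isIso_of_isIso_restrictD φ ((DRing.restrictD α).map (TrivBC.bcMap adjρ adjα h adj adj' K hc) ≫
          mate h adj adj' ((DRing.LBaseChange ρ).obj K))
    have h5 := IsIso.of_isIso_comp_right ((DRing.restrictD α).map (TrivBC.bcMap adjρ adjα h adj adj' K hc))
      (mate h adj adj' ((DRing.LBaseChange ρ).obj K))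
    exact isIso_of_isIso_restrictD α _

end GrothLib.TrivBC22
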