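import Groth.Agent.Lib.TrivBC22.Main
import Groth.Agent.Lib.TrivBC22.HasRHom
import Groth.Agent.Lib.DTen.ResTen
import Groth.Agent.Lib.DTen.RestrictUnit
import Groth.Agent.S13563

/-! # Base change of trivial duality along a tor independent cocartesian square -/

set_option autoImplicit false
set_option maxHeartbeats 1000000
universe u

open CategoryTheory CategoryTheory.Limits MonoidalCategory GrothLib.DT

attribute [local instance] HasDerivedCategory.standard

namespace GrothLib.TrivBC22

theorem isIso_bcMap_iff_evalTen (R A R' A' : Type u) [CommRing R] [CommRing A] [CommRing R'] [CommRing A']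
    [Algebra R A] [Algebra R R'] [Algebra A A'] [Algebra R' A'] [Algebra R A'] [IsScalarTower R A A'] [IsScalarTower R R' A']
    [Algebra.IsPushout R A R' A']
    (htor : ∀ p : ℕ, 1 ≤ p → Subsingleton (DRing.Tor R p A R'))
    [DRing.HasLBaseChange (algebraMap R R')] [DRing.HasLBaseChange (algebraMap A A')]
    (adjρ : DRing.LBaseChange (algebraMap R R') ⊣ DRing.restrictD (algebraMap R R'))
    (adjα : DRing.LBaseChange (algebraMap A A') ⊣ DRing.restrictD (algebraMap A A'))
    (h : (algebraMap A A').comp (algebraMap R A) = (algebraMap R' A').comp (algebraMap R R'))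
    (Rφ : Dual.D R ⥤ Dual.D A) (adj : DRing.restrictD (algebraMap R A) ⊣ Rφ)
    (Rφ' : Dual.D R' ⥤ Dual.D A') (adj' : DRing.restrictD (algebraMap R' A') ⊣ Rφ')
    (K : Dual.D R) (hc : IsIso (TrivBC.cmp adjρ adjα h (Rφ.obj K)))
    [DTen.HasLTen R] [DTen.HasLTen₃ R] [DTen.IsSymMonoidal R] [DTen.HasRHom R] :
    IsIso (TrivBC.bcMap adjρ adjα h adj adj' K hc) ↔
      IsIso (DTen.evalTen ((DRing.restrictD (algebraMap R R')).obj (DTen.unit R')) K
        ((DRing.restrictD (algebraMap R A)).obj (DTen.unit A))) := by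
  haveI := GrothLib.DT.hasLTen A
  haveI := GrothLib.DT.hasLTen₃ A
  haveI := GrothLib.DT.isSymMonoidal A
  haveI := GrothLib.DT.hasResTen (algebraMap R A)
  haveI := GrothLib.DT.resLegIso (algebraMap R A)
  haveI := GrothLib.DT.hasLTen R'
  haveI := GrothLib.DT.hasLTen₃ R'
  haveI := GrothLib.DT.isSymMonoidal R'
  haveI := GrothLib.DT.hasResTen (algebraMap R R')
  haveI := GrothLib.DT.resLegIso (algebraMap R R')
  exact isIso_bcMap_iff adjρ adjα h adj adj'
    (fun X => Groth.Agent.S13563.result R A R' A' htor adjρ adjα h X) K hc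

end GrothLib.TrivBC22
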